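import Mathlib

universe u

namespace Groth.Agent.Helper9.TruncDef

open Polynomial TensorProduct

section Model

variable {k : Type u} [Field k] (n : ℕ) {D : Type u} [CommRing D] [Algebra k D] (τ : D)

/-- the abstract property of `(D, τ)`: `D = k[τ]` with the single relation `τ^(n+1) = 0`. -/
structure IsTrunc : Prop where
  surj : Function.Surjective (aeval τ : k[X] →ₐ[k] D)
  ker : ∀ p : k[X], aeval τ p = 0 ↔ (X : k[X]) ^ (n + 1) ∣ p

theorem isTrunc_of_equiv (e : (k[X] ⧸ Ideal.span {(X : k[X]) ^ (n + 1)}) ≃ₐ[k] D)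
    (he : e (Ideal.Quotient.mk (Ideal.span {(X : k[X]) ^ (n + 1)}) X) = τ) :
    IsTrunc (k := k) n τ := by
  have h : (e : _ →ₐ[k] D).comp (Ideal.Quotient.mkₐ k (Ideal.span {(X : k[X]) ^ (n + 1)}))
      = aeval τ := by
    apply Polynomial.algHom_ext
    simp [he]
  constructor
  · rw [← h]
    exact e.surjective.comp Ideal.Quotient.mk_surjective
  · intro p
    rw [← h]
    have h0 : ((e : _ →ₐ[k] D).comp (Ideal.Quotient.mkₐ k (Ideal.span {(X : k[X]) ^ (n + 1)}))) p
        = e (Ideal.Quotient.mk _ p) := rfl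
    rw [h0, EmbeddingLike.map_eq_zero_iff, Ideal.Quotient.eq_zero_iff_mem,
      Ideal.mem_span_singleton]

variable {n τ} (h : IsTrunc (k := k) n τ)
include h

theorem IsTrunc.pow_eq_zero : τ ^ (n + 1) = 0 := by
  have := (h.ker (X ^ (n + 1))).2 dvd_rfl
  simpa using this

theorem IsTrunc.exists_add_mul (d : D) : ∃ (c : k) (d' : D), d = algebraMap k D c + τ * d' := by
  obtain ⟨p, rfl⟩ := h.surj d
  refine ⟨p.coeff 0, aeval τ p.divX, ?_⟩
  conv_lhs => rw [← Polynomial.divX_mul_X_add p]
  simp only [map_add, map_mul, aeval_X, aeval_C]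
  ring

theorem IsTrunc.ann_pow (j : ℕ) (hj : j ≤ n + 1) (x : D) (hx : τ ^ j * x = 0) :
    ∃ y : D, x = τ ^ (n + 1 - j) * y := by
  obtain ⟨p, rfl⟩ := h.surj x
  have h1 : aeval τ (X ^ j * p) = 0 := by simpa using hx
  rw [h.ker] at h1
  obtain ⟨s, hs⟩ := h1
  have hn : n + 1 = j + (n + 1 - j) := by omega
  have h2 : X ^ j * p = X ^ j * (X ^ (n + 1 - j) * s) := by
    rw [hs]; conv_lhs => rw [hn, pow_add]
    ring
  have h3 : p = X ^ (n + 1 - j) * s := (monic_X_pow j).isRegular.left h2
  exact ⟨aeval τ s, by rw [h3]; simp⟩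

end Model

/-- descend a "derivation-like" linear map along a surjective algebra map -/
theorem exists_derivation_of_surjective {R P A N : Type*} [CommRing R] [CommRing P] [CommRing A]
    [Algebra R P] [Algebra R A] [AddCommGroup N] [Module A N] [Module R N] [IsScalarTower R A N]
    (q : P →ₐ[R] A) (hq : Function.Surjective q) (d0 : P →ₗ[R] N)
    (h1 : d0 1 = 0) (hL : ∀ p1 p2, d0 (p1 * p2) = q p1 • d0 p2 + q p2 • d0 p1)
    (hK : ∀ p, q p = 0 → d0 p = 0) : ∃ δ : Derivation R A N, ∀ p, δ (q p) = d0 p := by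
  let L : A →ₗ[R] N := ((LinearMap.ker q.toLinearMap).liftQ d0 (fun p hp => hK p hp)) ∘ₗ
    (q.toLinearMap.quotKerEquivOfSurjective hq).symm.toLinearMap
  have hL' : ∀ p, L (q p) = d0 p := by
    intro p
    have : (q.toLinearMap.quotKerEquivOfSurjective hq).symm (q p) = Submodule.Quotient.mk p := by
      rw [LinearEquiv.symm_apply_eq]
      rfl
    simp only [L, LinearMap.coe_comp, LinearEquiv.coe_coe, Function.comp_apply, this]
    rfl
  refine ⟨{ toLinearMap := L, map_one_eq_zero' := ?_, leibniz' := ?_ }, hL'⟩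
  · have := hL' 1
    rw [map_one] at this
    rw [this, h1]
  · intro a b
    obtain ⟨p1, rfl⟩ := hq a
    obtain ⟨p2, rfl⟩ := hq b
    rw [← map_mul, hL', hL', hL', hL]

section Model2

variable {k : Type u} [Field k] {n : ℕ} {D : Type u} [CommRing D] [Algebra k D] {τ : D}
  (h : IsTrunc (k := k) n τ)
include h

theorem IsTrunc.exists_derivation {N : Type*} [AddCommGroup N] [Module D N] [Module k N]
    [IsScalarTower k D N] (u : N) (hu : τ ^ n • u = 0) :
    ∃ δ : Derivation k D N, δ τ = u := by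
  let d0 : k[X] →ₗ[k] N := ((LinearMap.toSpanSingleton D N u).restrictScalars k) ∘ₗ
    (aeval τ : k[X] →ₐ[k] D).toLinearMap ∘ₗ (Polynomial.derivative : k[X] →ₗ[k] k[X])
  have hd0 : ∀ p, d0 p = aeval τ (derivative p) • u := fun p => rfl
  obtain ⟨δ, hδ⟩ := exists_derivation_of_surjective (aeval τ : k[X] →ₐ[k] D) h.surj d0
    (by simp [hd0])
    (by
      intro p1 p2
      simp only [hd0, derivative_mul, map_add, map_mul, add_smul, mul_smul]
      rw [add_comm, smul_comm (aeval τ p2)])
    (by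
      intro p hp
      rw [h.ker] at hp
      obtain ⟨s, rfl⟩ := hp
      rw [hd0, derivative_mul, derivative_X_pow]
      simp only [map_add, map_mul, aeval_X, map_pow, aeval_C, add_smul, Nat.add_sub_cancel,
        map_natCast]
      rw [h.pow_eq_zero, zero_mul, zero_smul, add_zero, mul_assoc, mul_comm, mul_smul,
        smul_comm, mul_comm, mul_smul, hu, smul_zero, smul_zero])
  refine ⟨δ, ?_⟩
  have := hδ X
  rw [aeval_X] at this
  rw [this, hd0]
  simp

end Model2

end Groth.Agent.Helper9.TruncDef
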