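import Mathlib
import Groth.Agent.Lib.Helper9.TruncDef.Model

universe u

namespace Groth.Agent.Helper9.TruncDef

open Polynomial TensorProduct

section Nak

variable {A : Type*} [CommRing A] (z : A) (n : ℕ) (hz : z ^ n = 0)
include hz

theorem top_of_add_smul {M : Type*} [AddCommGroup M] [Module A M] (N : Submodule A M)
    (h : ∀ x : M, ∃ y ∈ N, ∃ w : M, x = y + z • w) : N = ⊤ := by
  have key : ∀ k : ℕ, ∀ x : M, ∃ y ∈ N, ∃ w : M, x = y + z ^ k • w := by
    intro k
    induction k with
    | zero => intro x; exact ⟨0, N.zero_mem, x, by simp⟩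
    | succ k ih =>
      intro x
      obtain ⟨y, hy, w, rfl⟩ := ih x
      obtain ⟨y', hy', w', rfl⟩ := h w
      refine ⟨y + z ^ k • y', N.add_mem hy (N.smul_mem _ hy'), w', ?_⟩
      rw [smul_add, smul_smul, ← pow_succ, add_assoc]
  rw [_root_.eq_top_iff]
  intro x _
  obtain ⟨y, hy, w, rfl⟩ := key n x
  rw [hz, zero_smul, add_zero]
  exact hy

end Nak

section Struct

variable {k : Type u} [Field k] {n : ℕ} {D : Type u} [CommRing D] [Algebra k D] {τ : D}
  (h : IsTrunc (k := k) n τ)
  {B : Type u} [CommRing B] [Algebra k B] [Algebra D B] [IsScalarTower k D B] [Module.Flat D B]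
  {t : B} (ht : t = algebraMap D B τ)

include h ht

omit [Algebra k B] [IsScalarTower k D B] [Module.Flat D B] in
theorem t_pow_eq_zero : t ^ (n + 1) = 0 := by
  rw [ht, ← map_pow, h.pow_eq_zero, map_zero]

omit [Algebra k B] [IsScalarTower k D B] in
/-- flatness: the annihilator of `t^j` is generated by `t^(n+1-j)`. -/
theorem flat_ann (j : ℕ) (hj : j ≤ n + 1) (b : B) (hb : t ^ j * b = 0) :
    ∃ c : B, b = t ^ (n + 1 - j) * c := by
  obtain ⟨m, a, y, h1, h2⟩ := Module.Flat.isTrivialRelation_of_sum_smul_eq_zero (R := D) (M := B)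
    (ι := Unit) (f := fun _ => τ ^ j) (x := fun _ => b) (by
      simp only [Finset.univ_unique, Finset.sum_singleton]
      rw [Algebra.smul_def, map_pow, ← ht, hb])
  have h1' : b = ∑ l, a () l • y l := h1 ()
  have h2' : ∀ l, τ ^ j * a () l = 0 := by
    intro l
    have := h2 l
    simpa using this
  choose c hc using fun l => h.ann_pow j hj (a () l) (h2' l)
  refine ⟨∑ l, c l • y l, ?_⟩
  rw [Finset.mul_sum]
  conv_lhs => rw [h1']
  apply Finset.sum_congr rfl
  intro l _
  rw [hc l, mul_smul, Algebra.smul_def (τ ^ (n + 1 - j)), map_pow, ← ht]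

/-- Structure theorem: `B ≅ D ⊗[k] (B/tB)`, hence `B` is formally smooth over `D`. -/
theorem formallySmooth (hsm : Algebra.FormallySmooth k (B ⧸ Ideal.span {t})) :
    Algebra.FormallySmooth D B := by
  classical
  let π : B →ₐ[k] (B ⧸ Ideal.span {t}) := Ideal.Quotient.mkₐ k (Ideal.span {t})
  have hπs : Function.Surjective π := Ideal.Quotient.mkₐ_surjective _ _
  have hπt : π t = 0 := Ideal.Quotient.eq_zero_iff_mem.2 (Ideal.mem_span_singleton_self t)
  have hker : RingHom.ker (π : B →+* (B ⧸ Ideal.span {t})) = Ideal.span {t} :=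
    Ideal.Quotient.mkₐ_ker k _
  have hnil : IsNilpotent (RingHom.ker (π : B →+* (B ⧸ Ideal.span {t}))) :=
    ⟨n + 1, by rw [hker, Ideal.span_singleton_pow, t_pow_eq_zero h ht]; simp⟩
  let s : (B ⧸ Ideal.span {t}) →ₐ[k] B :=
    Algebra.FormallySmooth.liftOfSurjective (AlgHom.id k _) π hπs hnil
  have hs : ∀ x, π (s x) = x := fun x =>
    congr($(Algebra.FormallySmooth.comp_liftOfSurjective (AlgHom.id k _) π hπs hnil) x)
  let Φ : D ⊗[k] (B ⧸ Ideal.span {t}) →ₐ[D] B :=
    Algebra.TensorProduct.lift (Algebra.ofId D B) s (fun _ _ => Commute.all _ _)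
  have hΦ : ∀ d b, Φ (d ⊗ₜ b) = algebraMap D B d * s b := fun d b => by
    simp [Φ, Algebra.ofId_apply]
  -- surjectivity
  have hsurj : Function.Surjective Φ := by
    have : LinearMap.range Φ.toLinearMap = ⊤ := by
      apply top_of_add_smul τ (n + 1) h.pow_eq_zero
      intro x
      refine ⟨s (π x), ⟨1 ⊗ₜ π x, by simp [hΦ]⟩, ?_⟩
      have hx : x - s (π x) ∈ Ideal.span {t} := by
        have : x - s (π x) ∈ RingHom.ker (π : B →+* (B ⧸ Ideal.span {t})) := by
          rw [RingHom.mem_ker]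
          change π (x - s (π x)) = 0
          rw [map_sub, hs, sub_self]
        rwa [hker] at this
      obtain ⟨w, hw⟩ := Ideal.mem_span_singleton'.1 hx
      exact ⟨w, by rw [Algebra.smul_def, ← ht, mul_comm, hw]; ring⟩
    exact LinearMap.range_eq_top.1 this
  -- decomposition of elements of the tensor product
  have hdec : ∀ y : D ⊗[k] (B ⧸ Ideal.span {t}),
      ∃ (b : B ⧸ Ideal.span {t}) (y' : D ⊗[k] (B ⧸ Ideal.span {t})), y = 1 ⊗ₜ b + τ • y' := by
    intro y
    induction y using TensorProduct.induction_on with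
    | zero => exact ⟨0, 0, by simp⟩
    | tmul d b =>
      obtain ⟨c, d', rfl⟩ := h.exists_add_mul d
      refine ⟨c • b, d' ⊗ₜ b, ?_⟩
      rw [add_tmul, Algebra.algebraMap_eq_smul_one, smul_tmul, TensorProduct.smul_tmul',
        smul_eq_mul]
    | add y1 y2 h1 h2 =>
      obtain ⟨b1, y1', rfl⟩ := h1
      obtain ⟨b2, y2', rfl⟩ := h2
      exact ⟨b1 + b2, y1' + y2', by rw [tmul_add, smul_add]; abel⟩
  have hπΦ : ∀ b y', π (Φ (1 ⊗ₜ b + τ • y')) = b := by
    intro b y'
    rw [map_add, map_smul, hΦ, map_one, one_mul, map_add, hs, Algebra.smul_def, ← ht, map_mul,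
      hπt, zero_mul, add_zero]
  -- injectivity
  have hinj : Function.Injective Φ := by
    rw [injective_iff_map_eq_zero]
    intro x hx
    have key : ∀ j, j ≤ n + 1 → ∃ y, x = τ ^ j • y := by
      intro j
      induction j with
      | zero => intro _; exact ⟨x, by simp⟩
      | succ j ih =>
        intro hj
        obtain ⟨y, rfl⟩ := ih (by omega)
        obtain ⟨b, y', rfl⟩ := hdec y
        have h1 : t ^ j * Φ (1 ⊗ₜ b + τ • y') = 0 := by
          rw [← hx, map_smul (f := Φ), Algebra.smul_def, map_pow, ← ht]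
        obtain ⟨c, hc⟩ := flat_ann h ht j (by omega) _ h1
        have h2 : π (Φ (1 ⊗ₜ b + τ • y')) = 0 := by
          have hnj : n + 1 - j = (n - j) + 1 := by omega
          rw [hc, hnj, pow_succ, map_mul, map_mul, hπt, mul_zero, zero_mul]
        rw [hπΦ] at h2
        subst h2
        exact ⟨y', by rw [tmul_zero, zero_add, smul_smul, ← pow_succ]⟩
    obtain ⟨y, rfl⟩ := key (n + 1) le_rfl
    rw [h.pow_eq_zero, zero_smul]
  exact Algebra.FormallySmooth.of_equiv (AlgEquiv.ofBijective Φ ⟨hinj, hsurj⟩)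

end Struct

end Groth.Agent.Helper9.TruncDef
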