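import Mathlib
import Groth.Agent.Lib.Helper9.TruncDef.Struct

universe u

namespace Groth.Agent.Helper9.TruncDef

open Polynomial TensorProduct KaehlerDifferential

section Kaehler

variable {k : Type u} [Field k] {n : ℕ} {D : Type u} [CommRing D] [Algebra k D] {τ : D}
  (h : IsTrunc (k := k) n τ)

include h

/-- `Ω[D⁄k]` is generated by `dτ`. -/
theorem exists_smul_dtau (ω : Ω[D⁄k]) : ∃ c : D, ω = c • KaehlerDifferential.D k D τ := by
  have : ω ∈ Submodule.span D {KaehlerDifferential.D k D τ} := by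
    have htop : ω ∈ Submodule.span D (Set.range (KaehlerDifferential.D k D)) := by
      rw [KaehlerDifferential.span_range_derivation]; trivial
    refine Submodule.span_le.2 ?_ htop
    rintro _ ⟨x, rfl⟩
    obtain ⟨p, rfl⟩ := h.surj x
    rw [Derivation.map_aeval]
    exact Submodule.smul_mem _ _ (Submodule.subset_span rfl)
  obtain ⟨c, hc⟩ := Submodule.mem_span_singleton.1 this
  exact ⟨c, hc.symm⟩

variable {B : Type u} [CommRing B] [Algebra k B] [Algebra D B] [IsScalarTower k D B]
  {t : B} (ht : t = algebraMap D B τ)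

include ht

/-- the kernel of `Ω[B⁄k] → Ω[B⁄D]` is generated by `dt`. -/
theorem exists_smul_dt_of_map_eq_zero (ω : Ω[B⁄k]) (hω : KaehlerDifferential.map k D B B ω = 0) :
    ∃ b : B, ω = b • KaehlerDifferential.D k B t := by
  obtain ⟨z, rfl⟩ := (KaehlerDifferential.exact_mapBaseChange_map k D B ω).1 hω
  clear hω
  induction z using TensorProduct.induction_on with
  | zero => exact ⟨0, by simp⟩
  | tmul b ω0 =>
    obtain ⟨c, rfl⟩ := exists_smul_dtau h ω0
    refine ⟨b * algebraMap D B c, ?_⟩
    rw [KaehlerDifferential.mapBaseChange_tmul, map_smul, KaehlerDifferential.map_D, ← ht,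
      mul_smul, algebraMap_smul]
  | add z1 z2 h1 h2 =>
    obtain ⟨b1, h1⟩ := h1
    obtain ⟨b2, h2⟩ := h2
    exact ⟨b1 + b2, by rw [map_add, h1, h2, add_smul]⟩

omit h ht [IsScalarTower k D B] [Algebra k D] [Algebra D B] in
/-- in characteristic zero, `t^n dt = 0` as soon as `t^(n+1) = 0`. -/
theorem pow_smul_dt_eq_zero [CharZero k] (ht0 : t ^ (n + 1) = 0) :
    t ^ n • KaehlerDifferential.D k B t = 0 := by
  have h1 := Derivation.leibniz_pow (KaehlerDifferential.D k B) t (n + 1)
  rw [ht0, map_zero, Nat.add_sub_cancel, ← Nat.cast_smul_eq_nsmul k] at h1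
  rcases smul_eq_zero.1 h1.symm with h2 | h2
  · exact absurd h2 (by exact_mod_cast Nat.succ_ne_zero n)
  · exact h2

/-- a `B`-linear form on `Ω[B⁄k]` with values in `B/t^n` taking the value `1` at `dt`. -/
theorem exists_sigma [Algebra.FormallySmooth D B] :
    ∃ σ : Ω[B⁄k] →ₗ[B] (B ⧸ Ideal.span {t ^ n}), σ (KaehlerDifferential.D k B t) = 1 := by
  obtain ⟨δ, hδ⟩ := h.exists_derivation (N := B ⧸ Ideal.span {t ^ n})
    (1 : B ⧸ Ideal.span {t ^ n}) (by
      rw [Algebra.smul_def, mul_one, IsScalarTower.algebraMap_apply D B (B ⧸ Ideal.span {t ^ n}),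
        map_pow, ← ht]
      exact Ideal.Quotient.eq_zero_iff_mem.2 (Ideal.mem_span_singleton_self _))
  have hinj : Function.Injective (KaehlerDifferential.mapBaseChange k D B) := by
    have hex := Algebra.H1Cotangent.exact_δ_mapBaseChange k D B
    have : Subsingleton (Algebra.H1Cotangent D B) :=
      Algebra.FormallySmooth.subsingleton_h1Cotangent
    rw [injective_iff_map_eq_zero]
    intro x hx
    obtain ⟨y, rfl⟩ := (hex x).1 hx
    rw [Subsingleton.elim y 0, map_zero]
  obtain ⟨j, hj⟩ := Module.projective_lifting_property (KaehlerDifferential.map k D B B)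
    LinearMap.id (KaehlerDifferential.map_surjective k D B)
  obtain ⟨_, ρ, hρ⟩ := ((KaehlerDifferential.exact_mapBaseChange_map k D B).split_tfae'.out 0 1
    rfl rfl).1 ⟨hinj, j, hj⟩
  refine ⟨(LinearMap.liftBaseChange B δ.liftKaehlerDifferential) ∘ₗ ρ, ?_⟩
  have h1 : KaehlerDifferential.D k B t =
      KaehlerDifferential.mapBaseChange k D B (1 ⊗ₜ KaehlerDifferential.D k D τ) := by
    rw [KaehlerDifferential.mapBaseChange_tmul, KaehlerDifferential.map_D, one_smul, ht]
  have h2 : ρ (KaehlerDifferential.mapBaseChange k D B (1 ⊗ₜ KaehlerDifferential.D k D τ)) =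
      1 ⊗ₜ KaehlerDifferential.D k D τ := congr($hρ _)
  rw [h1, LinearMap.comp_apply, h2, LinearMap.liftBaseChange_tmul, one_smul,
    Derivation.liftKaehlerDifferential_comp_D, hδ]

/-- the main exact sequence `0 → B' → B' ⊗ Ω[B⁄k] → B' ⊗ Ω[B⁄D] → 0`, with `B' = B/t^n`. -/
theorem main_seq [Algebra.FormallySmooth D B] :
    Module.Projective (B ⧸ Ideal.span {t ^ n}) ((B ⧸ Ideal.span {t ^ n}) ⊗[B] Ω[B⁄k]) ∧
    Function.Injective
      (LinearMap.toSpanSingleton (B ⧸ Ideal.span {t ^ n}) ((B ⧸ Ideal.span {t ^ n}) ⊗[B] Ω[B⁄k])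
        ((1 : (B ⧸ Ideal.span {t ^ n})) ⊗ₜ[B] KaehlerDifferential.D k B t)) ∧
    Function.Exact
      (LinearMap.toSpanSingleton (B ⧸ Ideal.span {t ^ n}) ((B ⧸ Ideal.span {t ^ n}) ⊗[B] Ω[B⁄k])
        ((1 : (B ⧸ Ideal.span {t ^ n})) ⊗ₜ[B] KaehlerDifferential.D k B t))
      (LinearMap.baseChange (B ⧸ Ideal.span {t ^ n}) (KaehlerDifferential.map k D B B)) ∧
    Function.Surjective
      (LinearMap.baseChange (B ⧸ Ideal.span {t ^ n}) (KaehlerDifferential.map k D B B)) := by
  obtain ⟨σ, hσ⟩ := exists_sigma h ht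
  set f := LinearMap.toSpanSingleton (B ⧸ Ideal.span {t ^ n})
    ((B ⧸ Ideal.span {t ^ n}) ⊗[B] Ω[B⁄k])
    ((1 : (B ⧸ Ideal.span {t ^ n})) ⊗ₜ[B] KaehlerDifferential.D k B t) with hf
  set g := LinearMap.baseChange (B ⧸ Ideal.span {t ^ n}) (KaehlerDifferential.map k D B B) with hg
  let r : (B ⧸ Ideal.span {t ^ n}) ⊗[B] Ω[B⁄k] →ₗ[B ⧸ Ideal.span {t ^ n}] (B ⧸ Ideal.span {t ^ n}) :=
    LinearMap.liftBaseChange (B ⧸ Ideal.span {t ^ n}) σ
  have hr : ∀ c, r (f c) = c := by
    intro c
    rw [hf, LinearMap.toSpanSingleton_apply, map_smul, LinearMap.liftBaseChange_tmul, hσ,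
      one_smul, smul_eq_mul, mul_one]
  have hdt : KaehlerDifferential.map k D B B (KaehlerDifferential.D k B t) = 0 := by
    rw [KaehlerDifferential.map_D, ht]
    exact Derivation.map_algebraMap _ _
  have hgf : ∀ c, g (f c) = 0 := by
    intro c
    rw [hf, LinearMap.toSpanSingleton_apply, map_smul, hg, LinearMap.baseChange_tmul, hdt,
      tmul_zero, smul_zero]
  have hsurj : Function.Surjective g := by
    have := LinearMap.lTensor_surjective (B ⧸ Ideal.span {t ^ n})
      (KaehlerDifferential.map_surjective k D B)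
    intro y
    obtain ⟨x, hx⟩ := this y
    exact ⟨x, hx⟩
  have hexact : Function.Exact f g := by
    intro y
    constructor
    · intro hy
      let f0 : B →ₗ[B] Ω[B⁄k] := LinearMap.toSpanSingleton B _ (KaehlerDifferential.D k B t)
      have hex0 : Function.Exact f0 (KaehlerDifferential.map k D B B) := by
        intro ω
        constructor
        · intro hω
          obtain ⟨b, rfl⟩ := exists_smul_dt_of_map_eq_zero h ht ω hω
          exact ⟨b, rfl⟩
        · rintro ⟨b, rfl⟩
          simp only [f0, LinearMap.toSpanSingleton_apply, map_smul, hdt, smul_zero]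
      have hex1 := lTensor_exact (B ⧸ Ideal.span {t ^ n}) hex0
        (KaehlerDifferential.map_surjective k D B)
      have hy' : (LinearMap.lTensor (B ⧸ Ideal.span {t ^ n}) (KaehlerDifferential.map k D B B)) y
          = 0 := hy
      obtain ⟨z, rfl⟩ := (hex1 y).1 hy'
      clear hy hy'
      have : ∀ z, (LinearMap.lTensor (B ⧸ Ideal.span {t ^ n}) f0) z ∈ LinearMap.range f := by
        intro z
        induction z using TensorProduct.induction_on with
        | zero => simp
        | tmul c b =>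
          refine ⟨b • c, ?_⟩
          rw [hf, LinearMap.toSpanSingleton_apply, LinearMap.lTensor_tmul]
          simp only [f0, LinearMap.toSpanSingleton_apply]
          rw [TensorProduct.smul_tmul', smul_eq_mul, mul_one, TensorProduct.smul_tmul]
        | add z1 z2 h1 h2 =>
          rw [map_add]
          exact Submodule.add_mem _ h1 h2
      exact this z
    · rintro ⟨c, rfl⟩
      exact hgf c
  have hinj : Function.Injective f := Function.LeftInverse.injective hr
  refine ⟨?_, hinj, hexact, hsurj⟩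
  obtain ⟨e, -, -⟩ := (hexact.split_tfae'.out 1 2 rfl rfl).1
    ⟨hsurj, r, LinearMap.ext fun c => hr c⟩
  exact Module.Projective.of_equiv e.symm

end Kaehler

end Groth.Agent.Helper9.TruncDef
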